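import Cfsg.Agent.SmallSylow.KleinNineBase
import Cfsg.Agent.Char.ClassProducts
import Cfsg.Agent.Char.Galois
import Cfsg.Prelude.Def_Transfer

/-!
A self-centralizing elementary abelian Sylow `3`-subgroup of order nine with Klein four automizer,
controlling the centralizers of its elements, is normal.
-/

set_option autoImplicit false
set_option linter.style.haveILetI false
set_option linter.unusedSectionVars false

namespace CfsgLib.KleinNine

open Subgroup CfsgLib.Char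
open scoped ComplexConjugate

variable {G : Type*} [Group G] [Finite G]

theorem aux_a : ∀ p : P9, (p.1, -p.2) = p → p ≠ 0 → ∃ s : (ZMod 3)ˣ, p = ((s : ZMod 3), 0) := by
  decide

theorem aux_b : ∀ p : P9, (p.1, -p.2) = -p → p ≠ 0 → ∃ t : (ZMod 3)ˣ, p = (0, (t : ZMod 3)) := by
  decide

theorem aux_c : ∀ c : P9, pat c = (false, false) →
    c ≠ 0 ∧ ∀ u : (ZMod 3)ˣ × (ZMod 3)ˣ, ((u.1 : ZMod 3) * c.1, (u.2 : ZMod 3) * c.2) = c → u = 1 := by
  decide

namespace Setup

variable (D : Setup G)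

theorem pat_ne_zero : ∀ {p q : P9}, pat p = pat q → q ≠ 0 → p ≠ 0 := by
  intro p q h hq e
  revert h hq
  subst e
  revert q
  decide

theorem conj_mem_swap {x y : G} {p : P9} (hx : IsConj (D.e p) x) {g : G} (hg : g * x * g⁻¹ = y)
    {q : P9} (hq : D.e q = y) (hp : p ≠ 0) : pat p = pat q :=
  (D.isConj_iff_pat hp).1 (hx.trans (isConj_iff.2 ⟨g, hg.trans hq.symm⟩))

theorem cube_of_conj {p : P9} {x : G} (h : IsConj (D.e p) x) : x ^ 3 = 1 := by
  obtain ⟨c, rfl⟩ := isConj_iff.1 h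
  rw [conj_pow, D.e_cube, mul_one, mul_inv_cancel]

theorem ne_one_of_conj {p : P9} (hp : p ≠ 0) {x : G} (h : IsConj (D.e p) x) : x ≠ 1 := by
  intro e
  subst e
  exact hp (D.e_eq_one.1 (isConj_one_left.1 h))

/-- Two classes of `T` whose products inside `T` miss a third have no products in it at all. -/
theorem count_zero {px py pz : P9} (hy : py ≠ 0) (hz : pz ≠ 0)
    (hzy : pat pz ≠ pat py) (hx : px ≠ 0)
    (hno : ∀ u v : P9, pat u = pat px → pat v = pat py → pat (u + v) ≠ pat pz) :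
    Nat.card {w : G × G // IsConj (D.e px) w.1 ∧ IsConj (D.e py) w.2 ∧ w.1 * w.2 = D.e pz} = 0 := by
  haveI : IsEmpty {w : G × G // IsConj (D.e px) w.1 ∧ IsConj (D.e py) w.2 ∧ w.1 * w.2 = D.e pz} := by
    refine ⟨fun ⟨⟨X, Y⟩, h1, h2, h3⟩ => ?_⟩
    have hY : IsConj (D.e py) Y⁻¹ := by
      obtain ⟨c, hc⟩ := isConj_iff.1 h2
      refine D.isConj_inv.trans (isConj_iff.2 ⟨c, ?_⟩)
      rw [← conj_inv, hc]
    have hprod : D.e pz * Y⁻¹ = X := by rw [← h3, mul_inv_cancel_right]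
    obtain ⟨g, hgz, hgy⟩ := D.common_conj (D.e_cube pz) (D.cube_of_conj hY)
      (by rw [hprod]; exact D.cube_of_conj h1) (fun e => hz (D.e_eq_one.1 e))
      (D.ne_one_of_conj hy hY)
      (fun e => hzy ((D.isConj_iff_pat hz).1 (e.trans hY.symm)))
    obtain ⟨cz, hcz⟩ := D.e_surj _ hgz
    obtain ⟨cy, hcy⟩ := D.e_surj _ hgy
    have hY' : g * Y * g⁻¹ = D.e (-cy) := by rw [D.e_neg, hcy]; group
    have hX' : g * X * g⁻¹ = D.e (cz + cy) := by rw [D.e_add, hcz, hcy, ← hprod]; group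
    have eX := D.conj_mem_swap h1 hX' rfl hx
    have eY := D.conj_mem_swap h2 hY' rfl hy
    have eZ := D.conj_mem_swap (IsConj.refl (D.e pz)) hcz.symm rfl hz
    refine hno _ _ eX.symm eY.symm ?_
    rw [add_neg_cancel_right]
    exact eZ.symm
  exact Nat.card_of_isEmpty

theorem mem_T_of_commute {c : P9} (hc : pat c = (false, false)) {x : G}
    (hx : x * D.e c = D.e c * x) : x ∈ D.T := by
  have hc0 : c ≠ 0 := (aux_c c hc).1
  have hxN : x ∈ normalizer (D.T : Set G) :=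
    D.loc _ (D.e_mem c) (fun e => hc0 (D.e_eq_one.1 e)) (mem_centralizer_singleton_iff.2 hx)
  have h1 := D.e_inj ((D.sgn_spec ⟨x, hxN⟩ c).symm.trans (mul_inv_eq_iff_eq_mul.2 hx))
  have hker : (⟨x, hxN⟩ : ↥(normalizer (D.T : Set G))) ∈ D.sgn.ker := by
    rw [MonoidHom.mem_ker]
    exact (aux_c c hc).2 _ h1
  rw [D.sgn_ker] at hker
  exact hker

/-- Products hitting a class with centralizer `T` are the products inside `T`. -/
theorem count_inside {px py : P9} (hxy : pat px ≠ pat py) (hx : px ≠ 0) (hy : py ≠ 0) {m : ℕ}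
    (hm : Nat.card {w : P9 × P9 // pat w.1 = pat px ∧ pat w.2 = pat py ∧ w.1 + w.2 = (1, 1)} = m) :
    Nat.card {w : G × G // IsConj (D.e px) w.1 ∧ IsConj (D.e py) w.2 ∧ w.1 * w.2 = D.e (1, 1)} = m := by
  subst hm
  refine (Nat.card_congr (Equiv.ofBijective
    (fun w : {w : P9 × P9 // pat w.1 = pat px ∧ pat w.2 = pat py ∧ w.1 + w.2 = (1, 1)} =>
      (⟨(D.e w.1.1, D.e w.1.2), (D.isConj_iff_pat hx).2 w.2.1.symm,
        (D.isConj_iff_pat hy).2 w.2.2.1.symm, by rw [← D.e_add, w.2.2.2]⟩ :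
        {w : G × G // IsConj (D.e px) w.1 ∧ IsConj (D.e py) w.2 ∧ w.1 * w.2 = D.e (1, 1)}))
    ⟨fun v w e => ?_, ?_⟩)).symm
  · have h := congrArg Subtype.val e
    simp only [Prod.mk.injEq] at h
    exact Subtype.ext (Prod.ext (D.e_inj h.1) (D.e_inj h.2))
  rintro ⟨⟨X, Y⟩, h1, h2, h3⟩
  dsimp only at h1 h2 h3
  obtain ⟨g, hgx, hgy⟩ := D.common_conj (D.cube_of_conj h1) (D.cube_of_conj h2)
    (by rw [h3]; exact D.e_cube _) (D.ne_one_of_conj hx h1) (D.ne_one_of_conj hy h2)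
    (fun e => hxy ((D.isConj_iff_pat hx).1 ((h1.trans e).trans h2.symm)))
  have hcomm : X * Y = Y * X := by
    have h := D.T_comm hgx hgy
    calc X * Y = g⁻¹ * (g * X * g⁻¹ * (g * Y * g⁻¹)) * g := by group
      _ = g⁻¹ * (g * Y * g⁻¹ * (g * X * g⁻¹)) * g := by rw [h]
      _ = Y * X := by group
  have hXT : X ∈ D.T := D.mem_T_of_commute (c := (1, 1)) (by decide) (by
    rw [← h3, mul_assoc]; exact congrArg (X * ·) hcomm)
  have hYT : Y ∈ D.T := D.mem_T_of_commute (c := (1, 1)) (by decide) (by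
    rw [← h3, ← mul_assoc, ← hcomm])
  obtain ⟨cx, hcx⟩ := D.e_surj X hXT
  obtain ⟨cy, hcy⟩ := D.e_surj Y hYT
  refine ⟨⟨(cx, cy), ((D.isConj_iff_pat hx).1 (hcx ▸ h1)).symm,
    ((D.isConj_iff_pat hy).1 (hcy ▸ h2)).symm, D.e_inj (by rw [D.e_add, hcx, hcy, h3])⟩, ?_⟩
  exact Subtype.ext (Prod.ext hcx hcy)

theorem value_real {χ : G → ℂ} (hχ : Cfsg.IsCharacter G χ) (p : P9) :
    conj (χ (D.e p)) = χ (D.e p) := by
  rw [← IsCharacter.apply_inv hχ]
  exact (IsClassFunction.apply_eq_of_isConj (IsCharacter.isClassFunction hχ) D.isConj_inv).symm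

theorem value_int {χ : G → ℂ} (hχ : Cfsg.IsCharacter G χ) (p : P9) :
    ∃ m : ℤ, χ (D.e p) = m := by
  refine IsCharacter.exists_int_apply hχ fun t ht => ?_
  have h3 : 3 ∣ Nat.card G := (Dvd.intro 3 rfl : 3 ∣ 3 * 3).trans
    ((D.card_T ▸ dvd_rfl : 3 * 3 ∣ Nat.card D.T).trans (card_subgroup_dvd_card _))
  have hmod : t % 3 = 1 ∨ t % 3 = 2 := by
    have : ¬ 3 ∣ t := fun h => Nat.not_coprime_of_dvd_of_dvd (by norm_num) h h3 ht
    omega
  have he : D.e p ^ t = D.e p ^ (t % 3) := by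
    conv_lhs => rw [← Nat.mod_add_div t 3, pow_add, pow_mul, D.e_cube, one_pow, mul_one]
  rw [he]
  rcases hmod with h | h <;> rw [h]
  · rw [pow_one]
  · rw [show D.e p ^ 2 = (D.e p)⁻¹ from eq_inv_of_mul_eq_one_left
      (by rw [← pow_succ]; exact D.e_cube p)]
    exact (IsClassFunction.apply_eq_of_isConj (IsCharacter.isClassFunction hχ) D.isConj_inv).symm

theorem value_congr {χ : G → ℂ} (hχ : Cfsg.IsCharacter G χ) {a c : ℤ}
    (ha : χ (D.e (1, 0)) = a) (hc : χ (D.e (1, 1)) = c) : (3 : ℤ) ∣ a - c := by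
  have hε := Complex.isPrimitiveRoot_exp 3 (by norm_num)
  obtain ⟨ω, hω, h⟩ := IsGeneralized.exists_apply_mul_sub (IsCharacter.isGeneralized hχ)
    Nat.prime_three hε (D.e_cube (0, 1)) (D.e_comm (0, 1) (1, 0))
  rw [← D.e_add, show ((0, 1) : P9) + (1, 0) = (1, 1) from by decide, ha, hc, ← Int.cast_sub] at h
  have := int_dvd_of_one_sub_mul Nat.prime_three hε hω h
  omega

/-- The triple sum over the irreducible characters. -/
noncomputable def triple (p q r : P9) : ℂ :=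
  ∑ χ ∈ irrFinset G, χ (D.e p) * χ (D.e q) * χ (D.e r) / χ 1

theorem triple_eq {p q r : P9} {n cp cq : ℕ}
    (hn : Nat.card {w : G × G // IsConj (D.e p) w.1 ∧ IsConj (D.e q) w.2 ∧ w.1 * w.2 = D.e r} = n)
    (hcp : Nat.card (centralizer ({D.e p} : Set G)) = cp)
    (hcq : Nat.card (centralizer ({D.e q} : Set G)) = cq) :
    D.triple p q r * (Nat.card G : ℂ) = (n : ℂ) * cp * cq := by
  classical
  haveI := Fintype.ofFinite G
  have h := card_class_products (D.e p) (D.e q) (D.e r)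
  rw [hn] at h
  have hsum : ∑ χ ∈ irrFinset G, χ (D.e p) * χ (D.e q) * conj (χ (D.e r)) / χ 1 = D.triple p q r :=
    Finset.sum_congr rfl fun χ hχ => by
      rw [D.value_real (IsIrrCharacter.isCharacter (mem_irrFinset.1 hχ))]
  rw [hsum] at h
  have h1 : (Nat.card {x : G // IsConj (D.e p) x} : ℂ) * cp = Nat.card G := by
    rw [← hcp]; exact_mod_cast card_conj_class_mul_card_centralizer (D.e p)
  have h2 : (Nat.card {x : G // IsConj (D.e q) x} : ℂ) * cq = Nat.card G := by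
    rw [← hcq]; exact_mod_cast card_conj_class_mul_card_centralizer (D.e q)
  have hG : (Nat.card G : ℂ) ≠ 0 := by simp
  rw [h]
  field_simp
  linear_combination (-(D.triple p q r)) *
    ((Nat.card {x : G // IsConj (D.e q) x} : ℂ) * cq * h1 + (Nat.card G : ℂ) * h2)

theorem card_cent_a : Nat.card (centralizer ({D.e (1, 0)} : Set G)) = 18 :=
  D.card_centralizer (m := 2) (by decide) (by rw [Nat.card_eq_fintype_card]; decide)

theorem card_cent_b : Nat.card (centralizer ({D.e (0, 1)} : Set G)) = 18 :=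
  D.card_centralizer (m := 2) (by decide) (by rw [Nat.card_eq_fintype_card]; decide)

theorem card_cent_c : Nat.card (centralizer ({D.e (1, 1)} : Set G)) = 9 :=
  D.card_centralizer (m := 1) (by decide) (by rw [Nat.card_eq_fintype_card]; decide)

/-- The identity for the first coordinate. -/
theorem triple_identity :
    (D.triple (1, 0) (1, 0) (0, 1) - D.triple (1, 0) (1, 0) (1, 1)
      - D.triple (1, 0) (0, 1) (1, 1) + D.triple (1, 0) (1, 1) (1, 1)) * (Nat.card G : ℂ) = -162 := by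
  have e1 := D.triple_eq (D.count_zero (px := (1, 0)) (py := (1, 0)) (pz := (0, 1)) (by decide)
    (by decide) (by decide) (by decide) (by decide)) D.card_cent_a D.card_cent_a
  have e2 := D.triple_eq (D.count_zero (px := (1, 0)) (py := (1, 0)) (pz := (1, 1)) (by decide)
    (by decide) (by decide) (by decide) (by decide)) D.card_cent_a D.card_cent_a
  have e3 := D.triple_eq (D.count_inside (px := (1, 0)) (py := (0, 1)) (m := 1) (by decide)
    (by decide) (by decide) (by rw [Nat.card_eq_fintype_card]; decide)) D.card_cent_a D.card_cent_b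
  have e4 := D.triple_eq (D.count_inside (px := (1, 0)) (py := (1, 1)) (m := 1) (by decide)
    (by decide) (by decide) (by rw [Nat.card_eq_fintype_card]; decide)) D.card_cent_a D.card_cent_c
  push_cast at e1 e2 e3 e4
  linear_combination e1 - e2 - e3 + e4

theorem index_free (h : ¬ normalizer (D.T : Set G) = ⊤) :
    10 ≤ (normalizer (D.T : Set G)).index := by
  classical
  set N := normalizer (D.T : Set G)
  have hTN : D.T ≤ N := le_normalizer
  set o : G ⧸ N := ((1 : G) : G ⧸ N)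
  have hfix : ∀ t ∈ D.T, t ≠ 1 → ∀ q : G ⧸ N, t • q = q → q = o := by
    intro t ht ht1 q hq
    induction q using QuotientGroup.induction_on with
    | _ g =>
      rw [MulAction.Quotient.smul_coe, QuotientGroup.eq, smul_eq_mul] at hq
      have hs : g⁻¹ * t * g ∈ N := by
        have := inv_mem hq
        simpa [mul_assoc] using this
      have hsT : g⁻¹ * t * g ∈ D.T := by
        obtain ⟨S, hS⟩ := D.sylow
        have hp : IsPGroup 3 ↥(zpowers (g⁻¹ * t * g)) := by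
          have : zpowers (g⁻¹ * t * g) = (zpowers t).map (MulAut.conj g⁻¹).toMonoidHom := by
            rw [MonoidHom.map_zpowers]; simp
          rw [this]
          exact (hS ▸ S.2).to_le (zpowers_le.2 ht) |>.map _
        have hsup : IsPGroup 3 ↥(zpowers (g⁻¹ * t * g) ⊔ D.T) :=
          hp.to_sup_of_normal_right' (hS ▸ S.2) (zpowers_le.2 hs)
        have := S.3 hsup (hS ▸ le_sup_right)
        rw [hS] at this
        exact (le_sup_left.trans this.le) (mem_zpowers _)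
      have hg := D.mem_N_of_conj (g := g⁻¹) ht ht1 (by simpa [mul_assoc] using hsT)
      exact QuotientGroup.eq.2 (by simpa using inv_mem (inv_mem_iff.1 hg))
  obtain ⟨q, hq⟩ : ∃ q : G ⧸ N, q ≠ o := by
    by_contra hno
    push Not at hno
    refine h (index_eq_one.1 ?_)
    rw [index_eq_card, Nat.card_eq_one_iff_unique]
    exact ⟨⟨fun a b => (hno a).trans (hno b).symm⟩, ⟨o⟩⟩
  have hinj : Function.Injective (fun x : Option ↥D.T => x.elim o (fun t => (t : G) • q)) := by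
    have hne : ∀ t : ↥D.T, (t : G) • q ≠ o := fun t e => hq (by
      have h2 : ((t : G)⁻¹) • o = o := by
        rw [MulAction.Quotient.smul_coe, QuotientGroup.eq, smul_eq_mul]
        simpa using hTN t.2
      calc q = ((t : G)⁻¹) • ((t : G) • q) := (inv_smul_smul _ _).symm
        _ = o := by rw [e, h2])
    rintro (_ | a) (_ | b) e
    · rfl
    · exact absurd e.symm (hne b)
    · exact absurd e (hne a)
    · congr 1
      refine Subtype.ext (by_contra fun hab => hq (hfix ((b : G)⁻¹ * a) ?_ ?_ q ?_))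
      · exact mul_mem (inv_mem b.2) a.2
      · exact fun e' => hab (inv_mul_eq_one.1 e').symm
      · rw [mul_smul]
        exact inv_smul_eq_iff.2 e
  have h10 := Nat.card_le_card_of_injective _ hinj
  rw [← index_eq_card, Finite.card_option, D.card_T] at h10
  exact h10

theorem normal : normalizer (D.T : Set G) = ⊤ := by
  classical
  by_contra hN
  have h360 : 360 ≤ Nat.card G := by
    rw [← card_mul_index (normalizer (D.T : Set G)), D.card_N]
    have := D.index_free hN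
    omega
  set s := irrFinset G
  have hchar : ∀ χ ∈ s, Cfsg.IsCharacter G χ := fun χ hχ =>
    IsIrrCharacter.isCharacter (mem_irrFinset.1 hχ)
  choose! a ha using fun χ hχ => D.value_int (hchar χ hχ) (1, 0)
  choose! b hb using fun χ hχ => D.value_int (hchar χ hχ) (0, 1)
  choose! c hc using fun χ hχ => D.value_int (hchar χ hχ) (1, 1)
  choose! n hn using fun χ hχ => D.value_congr (hchar χ hχ) (ha χ hχ) (hc χ hχ)
  choose! m hm using fun χ hχ => D.swap.value_congr (hchar χ hχ)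
    (show χ (D.swap.e (1, 0)) = b χ from hb χ hχ) (show χ (D.swap.e (1, 1)) = c χ from hc χ hχ)
  have hcol : ∀ p q : P9, p ≠ 0 → ∀ u v : (G → ℂ) → ℤ, (∀ χ ∈ s, χ (D.e p) = u χ) →
      (∀ χ ∈ s, χ (D.e q) = v χ) →
      ((∑ χ ∈ s, u χ * v χ : ℤ) : ℂ) =
        if pat p = pat q then (Nat.card (centralizer ({D.e p} : Set G)) : ℂ) else 0 := by
    intro p q hp u v hu hv
    have h := sum_irr_mul_conj (D.e p) (D.e q)
    simp only [D.isConj_iff_pat hp] at h
    rw [← h]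
    push_cast
    exact Finset.sum_congr rfl fun χ hχ => by
      rw [D.value_real (hchar χ hχ), hu χ hχ, hv χ hχ]
  have haa : ∑ χ ∈ s, a χ * a χ = 18 := by
    have h := hcol (1, 0) (1, 0) (by decide) a a ha ha
    rw [if_pos rfl, D.card_cent_a] at h
    exact_mod_cast h
  have hbb : ∑ χ ∈ s, b χ * b χ = 18 := by
    have h := hcol (0, 1) (0, 1) (by decide) b b hb hb
    rw [if_pos rfl, D.card_cent_b] at h
    exact_mod_cast h
  have hcc : ∑ χ ∈ s, c χ * c χ = 9 := by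
    have h := hcol (1, 1) (1, 1) (by decide) c c hc hc
    rw [if_pos rfl, D.card_cent_c] at h
    exact_mod_cast h
  have hab : ∑ χ ∈ s, a χ * b χ = 0 := by
    have h := hcol (1, 0) (0, 1) (by decide) a b ha hb
    rw [if_neg (by decide)] at h
    exact_mod_cast h
  have hac : ∑ χ ∈ s, a χ * c χ = 0 := by
    have h := hcol (1, 0) (1, 1) (by decide) a c ha hc
    rw [if_neg (by decide)] at h
    exact_mod_cast h
  have hbc : ∑ χ ∈ s, b χ * c χ = 0 := by
    have h := hcol (0, 1) (1, 1) (by decide) b c hb hc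
    rw [if_neg (by decide)] at h
    exact_mod_cast h
  have hnn : ∑ χ ∈ s, n χ * n χ = 3 := by
    have h : ∑ χ ∈ s, (9 * (n χ * n χ) - (a χ * a χ - 2 * (a χ * c χ) + c χ * c χ)) = 0 :=
      Finset.sum_eq_zero fun χ hχ => by linear_combination -(a χ - c χ + 3 * n χ) * hn χ hχ
    simp only [Finset.sum_sub_distrib, Finset.sum_add_distrib, ← Finset.mul_sum, haa, hac, hcc] at h
    linarith
  have hmm : ∑ χ ∈ s, m χ * m χ = 3 := by
    have h : ∑ χ ∈ s, (9 * (m χ * m χ) - (b χ * b χ - 2 * (b χ * c χ) + c χ * c χ)) = 0 :=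
      Finset.sum_eq_zero fun χ hχ => by linear_combination -(b χ - c χ + 3 * m χ) * hm χ hχ
    simp only [Finset.sum_sub_distrib, Finset.sum_add_distrib, ← Finset.mul_sum, hbb, hbc, hcc] at h
    linarith
  have hnm : ∑ χ ∈ s, n χ * m χ = 1 := by
    have h : ∑ χ ∈ s, (9 * (n χ * m χ) - (a χ * b χ - a χ * c χ - b χ * c χ + c χ * c χ)) = 0 :=
      Finset.sum_eq_zero fun χ hχ => by
        linear_combination -(b χ - c χ) * hn χ hχ - 3 * n χ * hm χ hχ
    simp only [Finset.sum_sub_distrib, Finset.sum_add_distrib, ← Finset.mul_sum, hab, hac, hbc,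
      hcc] at h
    linarith
  -- the two identities
  have key : ∀ (E : Setup G) (a b c n m : (G → ℂ) → ℤ),
      (∀ χ ∈ s, χ (E.e (1, 0)) = a χ) → (∀ χ ∈ s, χ (E.e (0, 1)) = b χ) →
      (∀ χ ∈ s, χ (E.e (1, 1)) = c χ) → (∀ χ ∈ s, a χ - c χ = 3 * n χ) →
      (∀ χ ∈ s, b χ - c χ = 3 * m χ) →
      (∑ χ ∈ s, ((n χ * m χ * a χ : ℤ) : ℂ) / χ 1) * (Nat.card G : ℂ) = -18 := by
    intro E a b c n m ha hb hc hn hm
    have h := E.triple_identity
    simp only [Setup.triple, ← Finset.sum_sub_distrib, ← Finset.sum_add_distrib] at h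
    have e : ∑ χ ∈ s, 9 * (((n χ * m χ * a χ : ℤ) : ℂ) / χ 1) =
        ∑ χ ∈ s, (χ (E.e (1, 0)) * χ (E.e (1, 0)) * χ (E.e (0, 1)) / χ 1 -
          χ (E.e (1, 0)) * χ (E.e (1, 0)) * χ (E.e (1, 1)) / χ 1 -
          χ (E.e (1, 0)) * χ (E.e (0, 1)) * χ (E.e (1, 1)) / χ 1 +
          χ (E.e (1, 0)) * χ (E.e (1, 1)) * χ (E.e (1, 1)) / χ 1) :=
      Finset.sum_congr rfl fun χ hχ => by
        have h1 : ((a χ : ℂ) - c χ) = 3 * n χ := by exact_mod_cast hn χ hχ
        have h2 : ((b χ : ℂ) - c χ) = 3 * m χ := by exact_mod_cast hm χ hχ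
        rw [ha χ hχ, hb χ hχ, hc χ hχ]
        push_cast
        rw [← mul_div_assoc, ← sub_div, ← sub_div, ← add_div]
        congr 1
        linear_combination (-(a χ : ℂ) * ((b χ : ℂ) - c χ)) * h1 - (a χ : ℂ) * (3 * n χ) * h2
    rw [← e, ← Finset.mul_sum] at h
    linear_combination h / 9
  have kA := key D a b c n m ha hb hc hn hm
  have kB := key D.swap b a c m n hb ha hc hm hn
  -- the support
  set K := s.filter fun χ => n χ * m χ ≠ 0
  have hone : ∀ χ ∈ s, (n χ = -1 ∨ n χ = 0 ∨ n χ = 1) ∧ (m χ = -1 ∨ m χ = 0 ∨ m χ = 1) := by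
    intro χ hχ
    have h1 : n χ * n χ ≤ 3 :=
      hnn ▸ Finset.single_le_sum (f := fun ψ => n ψ * n ψ) (fun ψ _ => mul_self_nonneg _) hχ
    have h2 : m χ * m χ ≤ 3 :=
      hmm ▸ Finset.single_le_sum (f := fun ψ => m ψ * m ψ) (fun ψ _ => mul_self_nonneg _) hχ
    constructor
    · have : -1 ≤ n χ ∧ n χ ≤ 1 := ⟨by nlinarith, by nlinarith⟩
      omega
    · have : -1 ≤ m χ ∧ m χ ≤ 1 := ⟨by nlinarith, by nlinarith⟩
      omega
  set P := s.filter fun χ => n χ * m χ = 1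
  set M := s.filter fun χ => n χ * m χ = -1
  have hpm : (P.card : ℤ) - M.card = 1 ∧ (P.card : ℤ) + M.card ≤ 3 := by
    have e1 : (P.card : ℤ) = ∑ χ ∈ s, if n χ * m χ = 1 then (1 : ℤ) else 0 := by
      rw [Finset.sum_boole]
    have e2 : (M.card : ℤ) = ∑ χ ∈ s, if n χ * m χ = -1 then (1 : ℤ) else 0 := by
      rw [Finset.sum_boole]
    constructor
    · rw [e1, e2, ← Finset.sum_sub_distrib]
      refine Eq.trans (Finset.sum_congr rfl fun χ hχ => ?_) hnm
      obtain ⟨h1, h2⟩ := hone χ hχ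
      rcases h1 with h1 | h1 | h1 <;> rcases h2 with h2 | h2 | h2 <;> simp [h1, h2]
    · rw [e1, e2, ← Finset.sum_add_distrib]
      calc _ ≤ ∑ χ ∈ s, n χ * n χ := Finset.sum_le_sum fun χ hχ => by
            obtain ⟨h1, h2⟩ := hone χ hχ
            rcases h1 with h1 | h1 | h1 <;> rcases h2 with h2 | h2 | h2 <;> simp [h1, h2]
        _ = 3 := hnn
  have hM : M.card = 0 := by
    by_contra hne
    obtain ⟨χ₁, hχ₁⟩ := Finset.card_eq_one.1 (by omega : M.card = 1)
    obtain ⟨hχ₁s, hχ₁v⟩ := Finset.mem_filter.1 (hχ₁ ▸ Finset.mem_singleton_self χ₁ : χ₁ ∈ M)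
    have hdiff : ∑ χ ∈ s, ((n χ * m χ * (a χ - b χ) : ℤ) : ℂ) / χ 1 = 0 := by
      have hG : (Nat.card G : ℂ) ≠ 0 := by exact_mod_cast Nat.card_pos.ne'
      apply mul_right_cancel₀ hG
      rw [zero_mul, ← sub_self (-18 : ℂ)]
      nth_rw 1 [← kA]
      rw [← kB, ← sub_mul, ← Finset.sum_sub_distrib]
      exact congrArg (· * _) (Finset.sum_congr rfl fun χ _ => by push_cast; ring)
    rw [Finset.sum_eq_single χ₁ (fun χ hχ hne' => ?_) (fun h => absurd hχ₁s h)] at hdiff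
    · obtain ⟨d, hd0, hd⟩ := IsIrrCharacter.exists_degree (mem_irrFinset.1 hχ₁s)
      rw [hd, div_eq_zero_iff] at hdiff
      rcases hdiff with h | h
      · have h' : n χ₁ * m χ₁ * (a χ₁ - b χ₁) = 0 := by exact_mod_cast h
        rw [hχ₁v] at h'
        obtain ⟨h1, h2⟩ := hone χ₁ hχ₁s
        have := hn χ₁ hχ₁s
        have := hm χ₁ hχ₁s
        rcases h1 with h1 | h1 | h1 <;> rcases h2 with h2 | h2 | h2 <;>
          rw [h1, h2] at hχ₁v <;> omega
      · exact hd0.ne' (by exact_mod_cast h)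
    · obtain ⟨h1, h2⟩ := hone χ hχ
      have hnot : n χ * m χ ≠ -1 := fun e => hne' (Finset.mem_singleton.1 (hχ₁ ▸
        Finset.mem_filter.2 ⟨hχ, e⟩))
      have := hn χ hχ
      have := hm χ hχ
      have hz : n χ * m χ * (a χ - b χ) = 0 := by
        rcases h1 with h1 | h1 | h1 <;> rcases h2 with h2 | h2 | h2 <;>
          rw [h1, h2] at hnot ⊢ <;> omega
      simp [hz]
  obtain ⟨χ₀, hχ₀⟩ := Finset.card_eq_one.1 (by omega : P.card = 1)
  obtain ⟨hχ₀s, hχ₀v⟩ := Finset.mem_filter.1 (hχ₀ ▸ Finset.mem_singleton_self χ₀ : χ₀ ∈ P)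
  have hsingle : ∑ χ ∈ s, ((n χ * m χ * a χ : ℤ) : ℂ) / χ 1 = (a χ₀ : ℂ) / χ₀ 1 := by
    rw [Finset.sum_eq_single χ₀ (fun χ hχ hne' => ?_) (fun h => absurd hχ₀s h), hχ₀v, one_mul]
    have hnot : n χ * m χ ≠ 1 := fun e => hne' (Finset.mem_singleton.1 (hχ₀ ▸
      Finset.mem_filter.2 ⟨hχ, e⟩))
    have hnot' : n χ * m χ ≠ -1 := fun e => by
      exact Finset.card_ne_zero_of_mem (show χ ∈ M from Finset.mem_filter.2 ⟨hχ, e⟩) hM
    obtain ⟨h1, h2⟩ := hone χ hχ
    have hz : n χ * m χ = 0 := by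
      rcases h1 with h1 | h1 | h1 <;> rcases h2 with h2 | h2 | h2 <;>
        rw [h1, h2] at hnot hnot' ⊢ <;> omega
    simp [hz]
  rw [hsingle] at kA
  obtain ⟨d, hd0, hd⟩ := IsIrrCharacter.exists_degree (mem_irrFinset.1 hχ₀s)
  have hd2 : d * d ≤ Nat.card G := by
    choose! deg hdeg0 hdeg using fun χ (hχ : χ ∈ s) =>
      IsIrrCharacter.exists_degree (mem_irrFinset.1 hχ)
    have h := sum_degree_sq (G := G)
    rw [Finset.sum_congr rfl fun χ hχ => by rw [hdeg χ hχ]] at h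
    have h' : ∑ χ ∈ s, deg χ ^ 2 = Nat.card G := by exact_mod_cast h
    have hdd : deg χ₀ = d := by exact_mod_cast (hdeg χ₀ hχ₀s).symm.trans hd
    calc d * d = deg χ₀ ^ 2 := by rw [hdd, pow_two]
      _ ≤ _ := h' ▸ Finset.single_le_sum (f := fun χ => deg χ ^ 2) (fun _ _ => Nat.zero_le _) hχ₀s
  rw [hd, div_mul_eq_mul_div, div_eq_iff (by exact_mod_cast hd0.ne' : (d : ℂ) ≠ 0)] at kA
  have kZ : a χ₀ * (Nat.card G : ℤ) = -18 * d := by exact_mod_cast kA
  have hG2 : (360 : ℤ) ≤ Nat.card G := by exact_mod_cast h360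
  have hd2' : (d : ℤ) * d ≤ Nat.card G := by exact_mod_cast hd2
  have hd0' : (1 : ℤ) ≤ d := by exact_mod_cast hd0
  have ha1 : a χ₀ ≤ -1 := by
    by_contra hge
    push Not at hge
    nlinarith
  have hbound : (Nat.card G : ℤ) ≤ 18 * d := by nlinarith
  nlinarith

end Setup

theorem exists_setup (T : Sylow 3 G) (hT : Cfsg.IsElementaryAbelian 3 (T : Subgroup G))
    (hcard : Nat.card T = 9) (hC : centralizer ((T : Subgroup G) : Set G) = T)
    [hn : ((T : Subgroup G).subgroupOf (normalizer ((T : Subgroup G) : Set G))).Normal]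
    (hK : IsKleinFour (↥(normalizer ((T : Subgroup G) : Set G)) ⧸
      (T : Subgroup G).subgroupOf (normalizer ((T : Subgroup G) : Set G))))
    (hloc : ∀ t ∈ (T : Subgroup G), t ≠ 1 →
      centralizer ({t} : Set G) ≤ normalizer ((T : Subgroup G) : Set G)) :
    ∃ D : Setup G, D.T = T := by
  classical
  set U := (T : Subgroup G)
  set N := normalizer (U : Set G)
  have hcm : ∀ x ∈ U, ∀ y ∈ U, x * y = y * x := fun x hx y hy => by
    haveI := hT.1
    exact congrArg Subtype.val (mul_comm' (⟨x, hx⟩ : ↥U) ⟨y, hy⟩)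
  have hcube : ∀ x ∈ U, x ^ 3 = 1 := fun x hx => hT.2 x hx
  have hidx : (U.subgroupOf N).index = 4 := by rw [index_eq_card]; exact hK.card_four
  haveI := hK
  have hconj : ∀ g ∈ N, ∀ x ∈ U, g * x * g⁻¹ ∈ U := fun g hg x hx =>
    (mem_normalizer_iff.1 hg x).1 hx
  have hsq : ∀ g ∈ N, g * g ∈ U := by
    intro g hg
    have := IsKleinFour.mul_self ((QuotientGroup.mk (⟨g, hg⟩ : ↥N)) : ↥N ⧸ U.subgroupOf N)
    rw [← QuotientGroup.mk_mul, QuotientGroup.eq_one_iff] at this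
    exact this
  have hcommN : ∀ g ∈ N, ∀ h ∈ N, (h * g)⁻¹ * (g * h) ∈ U := by
    intro g hg h hh
    have : ((QuotientGroup.mk (⟨g, hg⟩ * ⟨h, hh⟩ : ↥N)) : ↥N ⧸ U.subgroupOf N) =
        QuotientGroup.mk (⟨h, hh⟩ * ⟨g, hg⟩ : ↥N) := by
      rw [QuotientGroup.mk_mul, QuotientGroup.mk_mul]
      exact mul_comm_of_exponent_two IsKleinFour.exponent_two _ _
    rw [eq_comm, QuotientGroup.eq] at this
    exact this
  -- an element neither centralizing nor inverting
  obtain ⟨g, hgN, hgc, hgi⟩ : ∃ g ∈ N, (∃ x ∈ U, g * x * g⁻¹ ≠ x) ∧ ∃ x ∈ U, g * x * g⁻¹ ≠ x⁻¹ := by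
    have hout : ∀ g : ↥N, g ∉ U.subgroupOf N → ∃ x ∈ U, (g : G) * x * (g : G)⁻¹ ≠ x := by
      intro g hg
      by_contra hno
      push Not at hno
      exact hg (hC.le (mem_centralizer_iff.2 fun x hx => (mul_inv_eq_iff_eq_mul.1 (hno x hx)).symm))
    obtain ⟨q₁, hq₁⟩ : ∃ q : ↥N ⧸ U.subgroupOf N, q ≠ 1 := by
      by_contra hno
      push Not at hno
      haveI : Subsingleton (↥N ⧸ U.subgroupOf N) := ⟨fun a b => (hno a).trans (hno b).symm⟩
      have := hK.card_four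
      rw [Nat.card_of_subsingleton (1 : ↥N ⧸ U.subgroupOf N)] at this
      omega
    obtain ⟨q₂, hq₂, hq₂'⟩ : ∃ q : ↥N ⧸ U.subgroupOf N, q ≠ 1 ∧ q ≠ q₁ := by
      by_contra hno
      push Not at hno
      have hsub : (Set.univ : Set (↥N ⧸ U.subgroupOf N)) ⊆ {1, q₁} := fun q _ => by
        by_cases h : q = 1
        · exact Or.inl h
        · exact Or.inr (hno q h)
      have := Set.ncard_le_ncard hsub (Set.toFinite _)
      rw [Set.ncard_univ, hK.card_four] at this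
      have := (Set.ncard_insert_le (1 : ↥N ⧸ U.subgroupOf N) {q₁})
      rw [Set.ncard_singleton] at this
      omega
    obtain ⟨g₁, rfl⟩ := QuotientGroup.mk_surjective q₁
    obtain ⟨g₂, rfl⟩ := QuotientGroup.mk_surjective q₂
    rw [ne_eq, QuotientGroup.eq_one_iff] at hq₁ hq₂
    by_cases h1 : ∃ x ∈ U, (g₁ : G) * x * (g₁ : G)⁻¹ ≠ x⁻¹
    · exact ⟨g₁, g₁.2, hout g₁ hq₁, h1⟩
    · push Not at h1
      refine ⟨g₂, g₂.2, hout g₂ hq₂, by_contra fun h2 => hq₂' ?_⟩
      push Not at h2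
      refine QuotientGroup.eq.2 (hC.le (mem_centralizer_iff.2 fun x hx => ?_))
      refine (mul_inv_eq_iff_eq_mul.1 ?_).symm
      show ((g₂⁻¹ * g₁ : ↥N) : G) * x * ((g₂⁻¹ * g₁ : ↥N) : G)⁻¹ = x
      rw [Subgroup.coe_mul, InvMemClass.coe_inv]
      calc (g₂ : G)⁻¹ * g₁ * x * ((g₂ : G)⁻¹ * g₁)⁻¹ = (g₂ : G)⁻¹ * (g₁ * x * (g₁ : G)⁻¹) * g₂ := by
            group
        _ = (g₂ : G)⁻¹ * ((g₂ : G) * x * (g₂ : G)⁻¹) * g₂ := by rw [h1 x hx, h2 x hx]
        _ = x := by group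
  obtain ⟨y, hy, hy'⟩ := hgc
  obtain ⟨x, hx, hx'⟩ := hgi
  have hgg : ∀ z ∈ U, g * (g * z * g⁻¹) * g⁻¹ = z := fun z hz => by
    calc g * (g * z * g⁻¹) * g⁻¹ = g * g * z * (g * g)⁻¹ := by group
      _ = z := by rw [hcm _ (hsq g hgN) z hz, mul_inv_cancel_right]
  set a := x * (g * x * g⁻¹) with ha
  set b := y * (g * y * g⁻¹)⁻¹ with hb
  have haU : a ∈ U := mul_mem hx (hconj g hgN x hx)
  have hbU : b ∈ U := mul_mem hy (inv_mem (hconj g hgN y hy))
  have hga : g * a * g⁻¹ = a := by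
    calc g * a * g⁻¹ = (g * x * g⁻¹) * (g * (g * x * g⁻¹) * g⁻¹) := by rw [ha]; group
      _ = (g * x * g⁻¹) * x := by rw [hgg x hx]
      _ = a := by rw [ha, hcm x hx _ (hconj g hgN x hx)]
  have hgb : g * b * g⁻¹ = b⁻¹ := by
    calc g * b * g⁻¹ = (g * y * g⁻¹) * (g * (g * y * g⁻¹) * g⁻¹)⁻¹ := by rw [hb]; group
      _ = b⁻¹ := by rw [hgg y hy, hb]; group
  have ha1 : a ≠ 1 := fun e => hx' (eq_inv_of_mul_eq_one_right e)
  have hb1 : b ≠ 1 := fun e => hy' (mul_inv_eq_one.1 e).symm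
  -- coordinates
  let e : P9 → G := fun p => a ^ p.1.val * b ^ p.2.val
  have hval : ∀ {z : G}, z ^ 3 = 1 → ∀ i j : ZMod 3, z ^ (i + j).val = z ^ i.val * z ^ j.val := by
    intro z hz i j
    rw [ZMod.val_add, ← pow_add]
    conv_rhs => rw [← Nat.mod_add_div (i.val + j.val) 3, pow_add, pow_mul, hz, one_pow, mul_one]
  have hadd : ∀ p q, e (p + q) = e p * e q := by
    intro p q
    simp only [e, Prod.fst_add, Prod.snd_add, hval (hcube a haU), hval (hcube b hbU)]
    have hc : Commute (a ^ q.1.val) (b ^ p.2.val) :=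
      ((show Commute a b from hcm a haU b hbU).pow_left _).pow_right _
    rw [mul_assoc, mul_assoc, ← mul_assoc (a ^ q.1.val) (b ^ p.2.val), hc.eq]
    simp only [mul_assoc]
  have hmem : ∀ p, e p ∈ U := fun p => mul_mem (pow_mem haU _) (pow_mem hbU _)
  have hker : ∀ p, e p = 1 → p = 0 := by
    haveI : Fact (Nat.Prime 3) := ⟨Nat.prime_three⟩
    intro p hp
    have hval0 : ∀ {z : G}, z ≠ 1 → z ^ 3 = 1 → ∀ i : ZMod 3, z ^ i.val = 1 → i = 0 := by
      intro z hz hz3 i hi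
      have h3 : orderOf z = 3 := orderOf_eq_prime hz3 hz
      have hd := orderOf_dvd_of_pow_eq_one hi
      rw [h3] at hd
      exact (ZMod.val_eq_zero i).1 (Nat.eq_zero_of_dvd_of_lt hd (ZMod.val_lt i))
    have h2 : a ^ p.1.val * (b ^ p.2.val)⁻¹ = 1 := by
      have h1 := congrArg (fun z => g * z * g⁻¹) hp
      simp only [mul_one, mul_inv_cancel, e] at h1
      calc a ^ p.1.val * (b ^ p.2.val)⁻¹ = (g * a * g⁻¹) ^ p.1.val * (g * b * g⁻¹) ^ p.2.val := by
            rw [hga, hgb, inv_pow]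
        _ = g * (a ^ p.1.val * b ^ p.2.val) * g⁻¹ := by rw [conj_pow, conj_pow]; group
        _ = 1 := h1
    have hb3 : b ^ p.2.val * b ^ p.2.val = 1 := by
      have hp' : a ^ p.1.val * b ^ p.2.val = 1 := hp
      calc b ^ p.2.val * b ^ p.2.val =
            (a ^ p.1.val * (b ^ p.2.val)⁻¹)⁻¹ * (a ^ p.1.val * b ^ p.2.val) := by group
        _ = 1 := by rw [h2, hp', inv_one, one_mul]
    have hbj : b ^ p.2.val = 1 := by
      calc b ^ p.2.val = (b ^ p.2.val * b ^ p.2.val) * (b ^ p.2.val * b ^ p.2.val) *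
            ((b ^ 3) ^ p.2.val)⁻¹ := by rw [← pow_mul, mul_comm 3, pow_mul]; group
        _ = 1 := by rw [hb3, hcube b hbU, one_pow, inv_one, mul_one, mul_one]
    have hai : a ^ p.1.val = 1 := by rwa [hbj, inv_one, mul_one] at h2
    exact Prod.ext (hval0 ha1 (hcube a haU) _ hai) (hval0 hb1 (hcube b hbU) _ hbj)
  have hinj : Function.Injective e := fun p q hpq => by
    refine sub_eq_zero.1 (hker _ ?_)
    have h := hadd (p - q) q
    rw [sub_add_cancel, hpq] at h
    exact mul_eq_right.1 h.symm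
  have hsurj : ∀ z ∈ U, ∃ p, e p = z := by
    intro z hz
    have hcod : Function.Injective (fun p : P9 => (⟨e p, hmem p⟩ : ↥U)) :=
      fun p q h => hinj (congrArg Subtype.val h)
    obtain ⟨p, hp⟩ := ((Nat.bijective_iff_injective_and_card _).2
      ⟨hcod, by rw [hcard]; simp⟩).2 ⟨z, hz⟩
    exact ⟨p, congrArg Subtype.val hp⟩
  have hzero : e 0 = 1 := by simp [e]
  have hneg : ∀ p, e (-p) = (e p)⁻¹ := fun p =>
    eq_inv_of_mul_eq_one_left (by rw [← hadd, neg_add_cancel, hzero])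
  have hge : ∀ p : P9, g * e p * g⁻¹ = e (p.1, -p.2) := by
    intro p
    have h1 : e (p.1, 0) = a ^ p.1.val := by simp [e]
    have h2 : e (0, p.2) = b ^ p.2.val := by simp [e]
    rw [show ((p.1, -p.2) : P9) = (p.1, 0) + -(0, p.2) from by simp, hadd, hneg, h1, h2]
    show g * (a ^ p.1.val * b ^ p.2.val) * g⁻¹ = _
    calc g * (a ^ p.1.val * b ^ p.2.val) * g⁻¹ =
          (g * a ^ p.1.val * g⁻¹) * (g * b ^ p.2.val * g⁻¹) := by group
      _ = _ := by rw [← conj_pow, ← conj_pow, hga, hgb, inv_pow]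
  refine ⟨⟨U, ⟨T, rfl⟩, e, hzero, hadd, hinj, hmem, hsurj, hC, hloc, ?_, hidx⟩, rfl⟩
  intro h hh
  -- `h` preserves both lines
  have hfix : ∀ z ∈ U, g * (h * z * h⁻¹) * g⁻¹ = h * (g * z * g⁻¹) * h⁻¹ := by
    intro z hz
    have hc := hcommN g hgN h hh
    set t := (h * g)⁻¹ * (g * h) with ht
    calc g * (h * z * h⁻¹) * g⁻¹ = (h * g) * (t * z * t⁻¹) * (h * g)⁻¹ := by rw [ht]; group
      _ = (h * g) * z * (h * g)⁻¹ := by rw [hcm t hc z hz, mul_inv_cancel_right]
      _ = _ := by group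
  obtain ⟨pa, hpa⟩ := hsurj _ (hconj h hh a haU)
  obtain ⟨pb, hpb⟩ := hsurj _ (hconj h hh b hbU)
  have hpa2 : (pa.1, -pa.2) = pa := hinj (by rw [← hge, hpa, hfix a haU, hga])
  have hpb2 : (pb.1, -pb.2) = -pb := hinj (by
    rw [← hge, hneg, hpb, hfix b hbU, hgb, conj_inv])
  have hpa0 : pa ≠ 0 := fun e' => ha1 (conj_eq_one_iff.1 (by rw [← hpa, e', hzero]))
  have hpb0 : pb ≠ 0 := fun e' => hb1 (conj_eq_one_iff.1 (by rw [← hpb, e', hzero]))
  obtain ⟨s, hs⟩ := aux_a pa hpa2 hpa0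
  obtain ⟨t, ht⟩ := aux_b pb hpb2 hpb0
  refine ⟨s, t, fun p => ?_⟩
  have hnsmul : ∀ (k : ℕ) (q : P9), e (k • q) = e q ^ k := by
    intro k q
    induction k with
    | zero => rw [zero_nsmul, hzero, pow_zero]
    | succ k ih => rw [succ_nsmul, hadd, ih, pow_succ]
  calc h * e p * h⁻¹ = (h * a * h⁻¹) ^ p.1.val * (h * b * h⁻¹) ^ p.2.val := by
        show h * (a ^ p.1.val * b ^ p.2.val) * h⁻¹ = _
        rw [conj_pow, conj_pow]; group
    _ = _ := by
        rw [← hpa, ← hpb, ← hnsmul, ← hnsmul, ← hadd, hs, ht]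
        congr 1
        simp only [Prod.smul_mk, Prod.mk_add_mk, nsmul_eq_mul, ZMod.natCast_val, ZMod.cast_id',
          id_eq, mul_zero, add_zero, zero_add]
        exact Prod.ext (mul_comm _ _) (mul_comm _ _)

theorem normalizer_eq_top (T : Sylow 3 G) (hT : Cfsg.IsElementaryAbelian 3 (T : Subgroup G))
    (hcard : Nat.card T = 9) (hC : centralizer ((T : Subgroup G) : Set G) = T)
    [hn : ((T : Subgroup G).subgroupOf (normalizer ((T : Subgroup G) : Set G))).Normal]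
    (hK : IsKleinFour (↥(normalizer ((T : Subgroup G) : Set G)) ⧸
      (T : Subgroup G).subgroupOf (normalizer ((T : Subgroup G) : Set G))))
    (hloc : ∀ t ∈ (T : Subgroup G), t ≠ 1 →
      centralizer ({t} : Set G) ≤ normalizer ((T : Subgroup G) : Set G)) :
    normalizer ((T : Subgroup G) : Set G) = ⊤ := by
  obtain ⟨D, hD⟩ := exists_setup T hT hcard hC hK hloc
  rw [← hD]
  exact D.normal

end CfsgLib.KleinNine
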